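import Mathlib
import Groth.Prelude

/-!
# Localization at a multiplicative set of integers as a filtered colimit
-/

set_option autoImplicit false
set_option backward.isDefEq.respectTransparency false
set_option backward.isDefEq.respectTransparency.types false
set_option linter.style.haveILetI false

universe u v w

open CategoryTheory CategoryTheory.Limits

namespace Groth.Agent.EtLocLib

/-- The index category of a localization at a multiplicative set of integers. -/
def SObj (S : Submonoid ℤ) : Type (u + 1) := ULift.{u + 1} S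

variable (S : Submonoid ℤ)

instance : SmallCategory (SObj.{u} S) where
  Hom s t := ULift.{u + 1} {n : S // (s.down : ℤ) * n = t.down}
  id s := ⟨⟨1, by simp⟩⟩
  comp {s t r} f g := ⟨⟨f.down.1 * g.down.1, by
    rw [Submonoid.coe_mul, ← mul_assoc, f.down.2, g.down.2]⟩⟩
  id_comp f := ULift.ext _ _ (Subtype.ext (one_mul _))
  comp_id f := ULift.ext _ _ (Subtype.ext (mul_one _))
  assoc f g h := ULift.ext _ _ (Subtype.ext (mul_assoc _ _ _))

/-- The object attached to an element of the multiplicative set. -/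
def SObj.mk (s : S) : SObj.{u} S := ULift.up s

instance : Nonempty (SObj.{u} S) := ⟨SObj.mk S 1⟩

instance : IsFiltered (SObj.{u} S) where
  cocone_objs s t := ⟨SObj.mk S (s.down * t.down), ⟨⟨t.down, rfl⟩⟩,
    ⟨⟨s.down, by show (t.down : ℤ) * s.down = _; exact mul_comm _ _⟩⟩, trivial⟩
  cocone_maps {s t} f g := ⟨SObj.mk S (t.down * s.down), ⟨⟨s.down, rfl⟩⟩,
    ULift.ext _ _ (Subtype.ext (Subtype.ext (by
      show (f.down.1 : ℤ) * s.down = g.down.1 * s.down
      rw [mul_comm, f.down.2, mul_comm, g.down.2])))⟩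

variable {C : Type v} [Category.{w} C] [Preadditive C]

/-- The diagram of multiplications by elements of `S`. -/
def mulDiag (F : C) : SObj.{u} S ⥤ C where
  obj _ := F
  map f := (f.down.1 : ℤ) • 𝟙 F
  map_id _ := by
    show ((1 : S) : ℤ) • 𝟙 F = 𝟙 F
    simp
  map_comp f g := by
    show ((f.down.1 * g.down.1 : S) : ℤ) • 𝟙 F = _
    rw [Preadditive.zsmul_comp, Category.id_comp, smul_smul, Submonoid.coe_mul]

variable {F G : C} (φ : F ⟶ G) [hG : ∀ s : S, IsIso ((s : ℤ) • 𝟙 G)]

/-- The cocone given by a map to an object on which `S` is invertible. -/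
noncomputable def locCocone : Cocone (mulDiag.{u} S F) where
  pt := G
  ι :=
    { app := fun s => φ ≫ inv ((s.down : ℤ) • 𝟙 G)
      naturality := fun s t f => by
        show ((f.down.1 : ℤ) • 𝟙 F) ≫ φ ≫ inv ((t.down : ℤ) • 𝟙 G) =
          (φ ≫ inv ((s.down : ℤ) • 𝟙 G)) ≫ 𝟙 G
        rw [Category.comp_id, Preadditive.zsmul_comp, Category.id_comp]
        rw [← cancel_mono ((s.down : ℤ) • 𝟙 G), Category.assoc φ (inv ((s.down : ℤ) • 𝟙 G)),
          IsIso.inv_hom_id, Category.comp_id, Preadditive.zsmul_comp, Preadditive.comp_zsmul,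
          Category.comp_id, smul_smul, mul_comm, f.down.2, ← Preadditive.comp_zsmul,
          ← Category.comp_id (inv ((t.down : ℤ) • 𝟙 G)), ← Preadditive.comp_zsmul,
          IsIso.inv_hom_id, Category.comp_id] }

theorem locCocone_smul (s : SObj.{u} S) :
    (locCocone.{u} S φ).ι.app s ≫ ((s.down : ℤ) • 𝟙 G) = φ := by
  show (φ ≫ inv ((s.down : ℤ) • 𝟙 G)) ≫ _ = φ
  rw [Category.assoc, IsIso.inv_hom_id, Category.comp_id]

variable (Φ : C ⥤ AddCommGrpCat.{u + 1}) [Φ.Additive] [PreservesColimitsOfShape (SObj.{u} S) Φ]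

omit [PreservesColimitsOfShape (SObj.{u} S) Φ] hG in
theorem map_zsmul_id (H : C) (n : ℤ) (x : Φ.obj H) : (Φ.map (n • 𝟙 H)).hom x = n • x := by
  rw [Functor.map_zsmul, CategoryTheory.Functor.map_id]
  rfl

/-- A functor turning the map to a localization sees the comparison from the colimit as a bijection. -/
theorem bijective_of_isLocalizedModule {c : Cocone (mulDiag.{u} S F)} (hc : IsColimit c)
    (h : IsLocalizedModule S (Φ.map φ).hom.toIntLinearMap) :
    Function.Bijective (Φ.map (hc.desc (locCocone.{u} S φ))).hom := by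
  have hc' := isColimitOfPreserves Φ hc
  set g := hc.desc (locCocone.{u} S φ) with hg
  have hfac : ∀ (s : SObj.{u} S) (x : Φ.obj F),
      (s.down : ℤ) • (Φ.map g).hom ((Φ.map (c.ι.app s)).hom x) = (Φ.map φ).hom x := fun s x => by
    rw [← map_zsmul_id Φ G]
    show ((Φ.map (c.ι.app s) ≫ Φ.map g) ≫ Φ.map ((s.down : ℤ) • 𝟙 G)).hom x = _
    rw [← Functor.map_comp, ← Functor.map_comp, hg, hc.fac, locCocone_smul]
    rfl
  have hinj : ∀ (s : S) (y : Φ.obj G), (s : ℤ) • y = 0 → y = 0 := fun s y hy =>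
    ((Module.End.isUnit_iff _).1 (h.map_units s)).1 (by simpa using hy)
  refine ⟨(injective_iff_map_eq_zero _).2 fun z hz => ?_, fun y => ?_⟩
  · obtain ⟨s, x, rfl⟩ := Concrete.isColimit_exists_rep (mulDiag.{u} S F ⋙ Φ) hc' z
    have h1 : (Φ.map φ).hom x = (Φ.map φ).hom 0 := by
      rw [map_zero, ← hfac s x]
      exact (congrArg ((s.down : ℤ) • ·) hz).trans (smul_zero _)
    obtain ⟨k, hk⟩ := h.exists_of_eq (x₁ := x) (x₂ := 0) h1
    let t : SObj.{u} S := SObj.mk S (s.down * k)
    let f : s ⟶ t := ⟨⟨k, rfl⟩⟩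
    have hw : Φ.map (c.ι.app s) = Φ.map ((mulDiag.{u} S F).map f) ≫ Φ.map (c.ι.app t) := by
      rw [← Functor.map_comp, c.w]
    show (Φ.map (c.ι.app s)).hom x = 0
    rw [hw]
    show (Φ.map (c.ι.app t)).hom ((Φ.map ((k : ℤ) • 𝟙 F)).hom x) = 0
    rw [map_zsmul_id Φ F]
    have hk' : (k : ℤ) • x = 0 := by simpa [Submonoid.smul_def] using hk
    rw [hk', map_zero]
  · obtain ⟨⟨x, s⟩, hxs⟩ := h.surj y
    refine ⟨(Φ.map (c.ι.app (SObj.mk S s))).hom x, ?_⟩
    rw [← sub_eq_zero]
    refine hinj s _ ?_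
    rw [smul_sub, sub_eq_zero]
    exact (hfac (SObj.mk S s) x).trans (by simpa [Submonoid.smul_def] using hxs.symm)

/-- A functor preserving the colimit presentation turns the map to a localization into one. -/
theorem isLocalizedModule_of_isColimit {c : Cocone (mulDiag.{u} S F)} (hc : IsColimit c)
    [IsIso (hc.desc (locCocone.{u} S φ))] :
    IsLocalizedModule S (Φ.map φ).hom.toIntLinearMap := by
  have hc'' : IsColimit (locCocone.{u} S φ) :=
    hc.ofIsoColimit (Cocone.ext (asIso (hc.desc (locCocone.{u} S φ))) fun s => hc.fac _ s)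
  have hc' := isColimitOfPreserves Φ hc''
  have hfac : ∀ (s : SObj.{u} S) (x : Φ.obj F),
      (s.down : ℤ) • (Φ.map ((locCocone.{u} S φ).ι.app s)).hom x = (Φ.map φ).hom x := fun s x => by
    rw [← map_zsmul_id Φ G]
    show (Φ.map ((locCocone.{u} S φ).ι.app s) ≫ Φ.map ((s.down : ℤ) • 𝟙 G)).hom x = _
    rw [← Functor.map_comp, locCocone_smul]
    rfl
  have hone : (locCocone.{u} S φ).ι.app (SObj.mk S 1) = φ := by
    have h1 := locCocone_smul.{u} S φ (SObj.mk S 1)
    simp [SObj.mk] at h1 ⊢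
    exact (Category.comp_id _).symm.trans h1
  refine ⟨fun s => ?_, fun y => ?_, fun {x₁ x₂} hx => ?_⟩
  · rw [Module.End.isUnit_iff]
    have hb := ConcreteCategory.bijective_of_isIso (Φ.map ((s : ℤ) • 𝟙 G))
    convert hb using 1
    funext y
    exact ((map_zsmul_id Φ G (s : ℤ) y).trans rfl).symm
  · obtain ⟨s, x, rfl⟩ := Concrete.isColimit_exists_rep (mulDiag.{u} S F ⋙ Φ) hc' y
    exact ⟨⟨x, s.down⟩, hfac s x⟩
  · obtain ⟨k, f, g, hk⟩ := Concrete.isColimit_exists_of_rep_eq (mulDiag.{u} S F ⋙ Φ) hc'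
      (i := SObj.mk S 1) (j := SObj.mk S 1) x₁ x₂ (by
        show (Φ.map ((locCocone.{u} S φ).ι.app (SObj.mk S 1))).hom x₁ =
          (Φ.map ((locCocone.{u} S φ).ι.app (SObj.mk S 1))).hom x₂
        rw [hone]; exact hx)
    have hfg : f = g := ULift.ext _ _ (Subtype.ext (Subtype.ext
      (((one_mul (f.down.1 : ℤ)).symm.trans f.down.2).trans (g.down.2.symm.trans (one_mul _)))))
    subst hfg
    refine ⟨f.down.1, ?_⟩
    show (f.down.1 : ℤ) • x₁ = (f.down.1 : ℤ) • x₂
    rw [← map_zsmul_id Φ F, ← map_zsmul_id Φ F]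
    exact hk

end Groth.Agent.EtLocLib
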